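import Mathlib
import Cfsg.Agent.S2530

set_option autoImplicit false

/-! # Central extensions of alternating groups from Coxeter data

Given elements `w i` of a group satisfying the Coxeter relations of type `A_m` modulo a cyclic
subgroup `⟨z⟩` which they all centralize or all invert, the Coxeter presentation of the symmetric
group produces a central extension of the alternating group of degree `m + 1`; a commutator of
even words equal to `z` gives an element of order `orderOf z` of the kernel inside the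
commutator subgroup. -/

namespace Cfsg.Agent.Lib.Helper35.AltCover

open Equiv
open scoped commutatorElement

universe u

/-- the adjacent transposition `(i, i+1)` -/
def sw (m : ℕ) (i : Fin m) : Perm (Fin (m + 1)) := Equiv.swap i.castSucc i.succ

theorem sign_prod_sw (m : ℕ) (l : List (Fin m)) :
    Perm.sign ((l.map (sw m)).prod) = (-1) ^ l.length := by
  induction l with
  | nil => simp
  | cons i l ih =>
    rw [List.map_cons, List.prod_cons, map_mul, ih, List.length_cons, pow_succ, mul_comm]
    congr 1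
    exact Perm.sign_swap (Fin.castSucc_lt_succ).ne

theorem prod_sw_mem_alt (m : ℕ) (l : List (Fin m)) (h : Even l.length) :
    (l.map (sw m)).prod ∈ alternatingGroup (Fin (m + 1)) := by
  rw [Perm.mem_alternatingGroup, sign_prod_sw, h.neg_one_pow]

theorem even_of_prod_sw_mem_alt (m : ℕ) (l : List (Fin m))
    (h : (l.map (sw m)).prod ∈ alternatingGroup (Fin (m + 1))) : Even l.length := by
  rw [Perm.mem_alternatingGroup, sign_prod_sw] at h
  exact (neg_one_pow_eq_one_iff_even (by decide)).mp h

section Normal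

variable {W : Type u} [Group W] (Z : Subgroup W) {m : ℕ} (w : Fin m → W)

theorem even_prod_mem_centralizer
    (hpair : ∀ i j : Fin m, ∀ z ∈ Z, (w i * w j) * z = z * (w i * w j)) :
    ∀ (k : ℕ) (l : List (Fin m)), l.length = 2 * k →
      (l.map w).prod ∈ Subgroup.centralizer (Z : Set W) := by
  intro k
  induction k with
  | zero =>
    intro l hl
    have : l = [] := List.length_eq_zero_iff.mp (by simpa using hl)
    subst this
    simp
  | succ k ih =>
    intro l hl
    rcases l with _ | ⟨i, _ | ⟨j, l'⟩⟩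
    · simp at hl
    · simp at hl; omega
    · have hl' : l'.length = 2 * k := by simp at hl; omega
      rw [List.map_cons, List.map_cons, List.prod_cons, List.prod_cons, ← mul_assoc]
      refine Subgroup.mul_mem _ ?_ (ih l' hl')
      rw [Subgroup.mem_centralizer_iff]
      intro z hz
      exact (hpair i j z hz).symm

theorem cox_cover_normal [Z.Normal]
    (hcox : ∀ i j : Fin m, (w i * w j) ^ (CoxeterMatrix.A m i j) ∈ Z)
    (hpair : ∀ i j : Fin m, ∀ z ∈ Z, (w i * w j) * z = z * (w i * w j))
    (l₁ l₂ : List (Fin m)) (h₁ : Even l₁.length) (h₂ : Even l₂.length)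
    (hperm : Commute ((l₁.map (sw m)).prod) ((l₂.map (sw m)).prod))
    (z₀ : W) (hcomm : ⁅(l₁.map w).prod, (l₂.map w).prod⁆ = z₀) :
    ∃ (X : Type u) (_ : Group X) (ξ : X →* alternatingGroup (Fin (m + 1))),
      Function.Surjective ξ ∧ ξ.ker ≤ Subgroup.center X ∧
      ∃ x : X, x ∈ ξ.ker ⊓ commutator X ∧ orderOf x = orderOf z₀ := by
  classical
  obtain ⟨cs, hcs⟩ := Cfsg.Agent.S2530.result m
  let f : Fin m → W ⧸ Z := fun i => QuotientGroup.mk (w i)
  have hf : (CoxeterMatrix.A m).IsLiftable f := by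
    intro i j
    show ((QuotientGroup.mk (w i) : W ⧸ Z) * QuotientGroup.mk (w j)) ^ _ = 1
    rw [← QuotientGroup.mk_mul, ← QuotientGroup.mk_pow, QuotientGroup.eq_one_iff]
    exact hcox i j
  let φ : Perm (Fin (m + 1)) →* W ⧸ Z := cs.lift ⟨f, hf⟩
  have hφ : ∀ l : List (Fin m),
      φ ((l.map (sw m)).prod) = QuotientGroup.mk ((l.map w).prod) := by
    intro l
    induction l with
    | nil => simp
    | cons i l ih =>
      rw [List.map_cons, List.prod_cons, List.map_cons, List.prod_cons, map_mul, ih,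
        QuotientGroup.mk_mul]
      congr 1
      show φ (Equiv.swap i.castSucc i.succ) = _
      rw [← hcs i]
      exact cs.lift_apply_simple hf i
  have hev : ∀ l : List (Fin m), Even l.length →
      (l.map w).prod ∈ Subgroup.centralizer (Z : Set W) := by
    intro l hl
    obtain ⟨k, hk⟩ := hl
    exact even_prod_mem_centralizer Z w hpair k l (by omega)
  let X : Subgroup (W × alternatingGroup (Fin (m + 1))) :=
    { carrier := {p | (QuotientGroup.mk p.1 : W ⧸ Z) = φ (p.2 : Perm (Fin (m + 1))) ∧
        p.1 ∈ Subgroup.centralizer (Z : Set W)}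
      mul_mem' := by
        rintro ⟨a, a'⟩ ⟨b, b'⟩ ⟨ha, ha'⟩ ⟨hb, hb'⟩
        refine ⟨?_, Subgroup.mul_mem _ ha' hb'⟩
        show (QuotientGroup.mk (a * b) : W ⧸ Z) =
          φ ((a' * b' : alternatingGroup (Fin (m + 1))) : Perm (Fin (m + 1)))
        rw [QuotientGroup.mk_mul, Subgroup.coe_mul, map_mul]
        exact congrArg₂ (· * ·) ha hb
      one_mem' := by
        refine ⟨?_, Subgroup.one_mem _⟩
        show (QuotientGroup.mk (1 : W) : W ⧸ Z) =
          φ ((1 : alternatingGroup (Fin (m + 1))) : Perm (Fin (m + 1)))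
        rw [Subgroup.coe_one, map_one]; rfl
      inv_mem' := by
        rintro ⟨a, a'⟩ ⟨ha, ha'⟩
        refine ⟨?_, Subgroup.inv_mem _ ha'⟩
        show (QuotientGroup.mk a⁻¹ : W ⧸ Z) =
          φ ((a'⁻¹ : alternatingGroup (Fin (m + 1))) : Perm (Fin (m + 1)))
        rw [QuotientGroup.mk_inv, Subgroup.coe_inv, map_inv]
        exact congrArg (·⁻¹) ha }
  let ξ : X →* alternatingGroup (Fin (m + 1)) := (MonoidHom.snd W _).comp X.subtype
  have hξ : ∀ x : X, ξ x = (x : W × alternatingGroup (Fin (m + 1))).2 := fun _ => rfl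
  have hmk : ∀ l : List (Fin m), ∀ hl : Even l.length,
      (((l.map w).prod, (⟨(l.map (sw m)).prod, prod_sw_mem_alt m l hl⟩ :
        alternatingGroup (Fin (m + 1)))) : W × alternatingGroup (Fin (m + 1))) ∈ X :=
    fun l hl => ⟨(hφ l).symm, hev l hl⟩
  refine ⟨↥X, inferInstance, ξ, ?_, ?_, ?_⟩
  · intro a
    obtain ⟨ω, hω⟩ := cs.wordProd_surjective (a : Perm (Fin (m + 1)))
    have hω' : (ω.map (sw m)).prod = (a : Perm (Fin (m + 1))) := by
      rw [← hω]
      show _ = (ω.map cs.simple).prod
      congr 1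
      apply List.map_congr_left
      intro i _
      exact (hcs i).symm
    have hlen : Even ω.length := even_of_prod_sw_mem_alt m ω (by rw [hω']; exact a.2)
    refine ⟨⟨_, hmk ω hlen⟩, ?_⟩
    rw [hξ]
    exact Subtype.ext hω'
  · rintro ⟨⟨x, a⟩, hx, hx'⟩ hker
    have ha : a = 1 := by
      have := MonoidHom.mem_ker.mp hker
      rw [hξ] at this
      exact this
    subst ha
    have hxZ : x ∈ Z := by
      have h1 : (QuotientGroup.mk x : W ⧸ Z) = 1 := by
        have : (QuotientGroup.mk x : W ⧸ Z) =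
            φ ((1 : alternatingGroup (Fin (m + 1))) : Perm (Fin (m + 1))) := hx
        rw [this, Subgroup.coe_one, map_one]
      exact (QuotientGroup.eq_one_iff x).mp h1
    rw [Subgroup.mem_center_iff]
    rintro ⟨⟨y, b⟩, hy, hy'⟩
    apply Subtype.ext
    show ((y * x, b * 1) : W × alternatingGroup (Fin (m + 1))) = (x * y, 1 * b)
    rw [mul_one, one_mul, Subgroup.mem_centralizer_iff.mp hy' x hxZ]
  · let g₁ : X := ⟨_, hmk l₁ h₁⟩
    let g₂ : X := ⟨_, hmk l₂ h₂⟩
    have hval : ((⁅g₁, g₂⁆ : X) : W × alternatingGroup (Fin (m + 1))) = (z₀, 1) := by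
      have e1 : ((⁅g₁, g₂⁆ : X) : W × alternatingGroup (Fin (m + 1))) =
          ⁅(g₁ : W × alternatingGroup (Fin (m + 1))), (g₂ : W × alternatingGroup (Fin (m + 1)))⁆ := by
        simp [commutatorElement_def]
      rw [e1]
      apply Prod.ext
      · show ⁅(l₁.map w).prod, (l₂.map w).prod⁆ = z₀
        exact hcomm
      · show ⁅(⟨(l₁.map (sw m)).prod, prod_sw_mem_alt m l₁ h₁⟩ : alternatingGroup (Fin (m + 1))),
          (⟨(l₂.map (sw m)).prod, prod_sw_mem_alt m l₂ h₂⟩ : alternatingGroup (Fin (m + 1)))⁆ = 1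
        rw [commutatorElement_eq_one_iff_commute]
        exact Subtype.ext hperm.eq
    refine ⟨⁅g₁, g₂⁆, Subgroup.mem_inf.mpr ⟨?_, ?_⟩, ?_⟩
    · rw [MonoidHom.mem_ker, hξ, hval]
    · rw [commutator_def]
      exact Subgroup.commutator_mem_commutator (Subgroup.mem_top g₁) (Subgroup.mem_top g₂)
    · rw [← Subgroup.orderOf_coe, hval, Prod.orderOf]
      simp

end Normal

section Cyclic

variable {G : Type u} [Group G]

theorem mem_normalizer_zpowers {g z : G} (h : g * z * g⁻¹ = z ∨ g * z * g⁻¹ = z⁻¹) :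
    g ∈ Subgroup.normalizer (Subgroup.zpowers z : Set G) := by
  have h' : g⁻¹ * z * g = z ∨ g⁻¹ * z * g = z⁻¹ := by
    rcases h with h | h
    · left
      calc g⁻¹ * z * g = g⁻¹ * (g * z * g⁻¹) * g := by rw [h]
        _ = z := by group
    · right
      have : z = g⁻¹ * z⁻¹ * g := by
        calc z = g⁻¹ * (g * z * g⁻¹) * g := by group
          _ = g⁻¹ * z⁻¹ * g := by rw [h]
      calc g⁻¹ * z * g = (g⁻¹ * z⁻¹ * g)⁻¹ := by group
        _ = z⁻¹ := by rw [← this]
  rw [Subgroup.mem_normalizer_iff]
  intro x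
  constructor
  · intro hx
    obtain ⟨k, rfl⟩ := Subgroup.mem_zpowers_iff.mp hx
    rw [← conj_zpow]
    rcases h with h | h
    · rw [h]; exact Subgroup.zpow_mem_zpowers z k
    · rw [h]; exact Subgroup.zpow_mem _ (Subgroup.inv_mem _ (Subgroup.mem_zpowers z)) k
  · intro hx
    obtain ⟨k, hk⟩ := Subgroup.mem_zpowers_iff.mp hx
    have e : x = (g⁻¹ * z * g) ^ k := by
      have e1 : (g⁻¹ * z * g) ^ k = g⁻¹ * z ^ k * g := by
        have := conj_zpow (a := g⁻¹) (b := z) (i := k)
        rw [inv_inv] at this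
        exact this
      rw [e1, hk]; group
    rw [e]
    rcases h' with h' | h'
    · rw [h']; exact Subgroup.zpow_mem_zpowers z k
    · rw [h']; exact Subgroup.zpow_mem _ (Subgroup.inv_mem _ (Subgroup.mem_zpowers z)) k

theorem coe_list_prod_map (N : Subgroup G) {ι : Type*} (w : ι → G) (hN : ∀ i, w i ∈ N)
    (l : List ι) : (((l.map fun i => (⟨w i, hN i⟩ : N)).prod : N) : G) = (l.map w).prod := by
  induction l with
  | nil => simp
  | cons i l ih => rw [List.map_cons, List.prod_cons, Subgroup.coe_mul, ih, List.map_cons,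
      List.prod_cons]

/-- Coxeter data modulo a cyclic subgroup give a central extension of the alternating group -/
theorem cox_cover (z : G) {m : ℕ} (w : Fin m → G)
    (hconj : (∀ i, w i * z * (w i)⁻¹ = z) ∨ (∀ i, w i * z * (w i)⁻¹ = z⁻¹))
    (hcox : ∀ i j : Fin m, (w i * w j) ^ (CoxeterMatrix.A m i j) ∈ Subgroup.zpowers z)
    (l₁ l₂ : List (Fin m)) (h₁ : Even l₁.length) (h₂ : Even l₂.length)
    (hperm : Commute ((l₁.map (sw m)).prod) ((l₂.map (sw m)).prod))
    (hcomm : ⁅(l₁.map w).prod, (l₂.map w).prod⁆ = z) :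
    ∃ (X : Type u) (_ : Group X) (ξ : X →* alternatingGroup (Fin (m + 1))),
      Function.Surjective ξ ∧ ξ.ker ≤ Subgroup.center X ∧
      ∃ x : X, x ∈ ξ.ker ⊓ commutator X ∧ orderOf x = orderOf z := by
  set N : Subgroup G := Subgroup.normalizer (Subgroup.zpowers z : Set G) with hNdef
  have hN : ∀ i, w i ∈ N := by
    intro i
    apply mem_normalizer_zpowers
    rcases hconj with h | h
    · exact Or.inl (h i)
    · exact Or.inr (h i)
  have hzN : z ∈ N := Subgroup.le_normalizer (Subgroup.mem_zpowers z)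
  let Z' : Subgroup N := (Subgroup.zpowers z).subgroupOf N
  haveI : Z'.Normal := Subgroup.normal_in_normalizer
  let w' : Fin m → N := fun i => ⟨w i, hN i⟩
  have hpairG : ∀ i j : Fin m, (w i * w j) * z = z * (w i * w j) := by
    intro i j
    rcases hconj with h | h
    · have hi := h i
      have hj := h j
      have hi' : w i * z = z * w i := by
        calc w i * z = w i * z * (w i)⁻¹ * w i := by group
          _ = z * w i := by rw [hi]
      have hj' : w j * z = z * w j := by
        calc w j * z = w j * z * (w j)⁻¹ * w j := by group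
          _ = z * w j := by rw [hj]
      rw [mul_assoc, hj', ← mul_assoc, hi', mul_assoc]
    · have hi := h i
      have hj := h j
      have hj' : w j * z = z⁻¹ * w j := by
        calc w j * z = w j * z * (w j)⁻¹ * w j := by group
          _ = z⁻¹ * w j := by rw [hj]
      have hi' : w i * z⁻¹ = z * w i := by
        calc w i * z⁻¹ = (w i * z * (w i)⁻¹)⁻¹ * w i := by group
          _ = z * w i := by rw [hi, inv_inv]
      rw [mul_assoc, hj', ← mul_assoc, hi', mul_assoc]
  have hres := cox_cover_normal Z' w' (m := m)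
    (by
      intro i j
      show (((w' i * w' j) ^ (CoxeterMatrix.A m i j) : N) : G) ∈ Subgroup.zpowers z
      rw [Subgroup.coe_pow, Subgroup.coe_mul]
      exact hcox i j)
    (by
      intro i j z' hz'
      have hz'' : (z' : G) ∈ Subgroup.zpowers z := hz'
      obtain ⟨k, hk⟩ := Subgroup.mem_zpowers_iff.mp hz''
      apply Subtype.ext
      rw [Subgroup.coe_mul, Subgroup.coe_mul, Subgroup.coe_mul, ← hk]
      exact ((show Commute (w i * w j) z from hpairG i j).zpow_right k).eq)
    l₁ l₂ h₁ h₂ hperm ⟨z, hzN⟩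
    (by
      apply Subtype.ext
      have e : ∀ a b : N, ((⁅a, b⁆ : N) : G) = ⁅(a : G), (b : G)⁆ := by
        intro a b; simp [commutatorElement_def]
      rw [e, coe_list_prod_map N w hN, coe_list_prod_map N w hN]
      exact hcomm)
  obtain ⟨X, hX, ξ, h1, h2, x, hx, hord⟩ := hres
  exact ⟨X, hX, ξ, h1, h2, x, hx, by rw [hord, Subgroup.orderOf_mk]⟩

end Cyclic

end Cfsg.Agent.Lib.Helper35.AltCover
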