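import Mathlib
import Cfsg.Agent.Lib.Helper35.Alt.Cover

set_option autoImplicit false

/-! # A model of `3.S₇` on `63` points

The group `3.S₇` acts on the `63` cosets of a subgroup `S₅ × 2`; the points are grouped in `21`
blocks of size `3` (indexed by the pairs of `{0,…,6}`) on which the lifts `w k` of the adjacent
transpositions act by `(p, c) ↦ (π_k p, d_k p - c)`. The data were found by solving the linear
system over `𝔽₃` expressing the Coxeter relations modulo the translation `z`. -/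

namespace Cfsg.Agent.Lib.Helper35.Alt3

open scoped commutatorElement
open Cfsg.Agent.Lib.Helper35.AltCover

/-- block permutation of the lift of `(0, 1)` -/
def pi0 : Fin 21 → Fin 21 := ![0, 6, 7, 8, 9, 10, 1, 2, 3, 4, 5, 11, 12, 13, 14, 15, 16, 17, 18, 19, 20]
/-- translation part of the lift of `(0, 1)` -/
def dd0 : Fin 21 → ZMod 3 := ![0, 0, 0, 0, 0, 0, 0, 0, 0, 0, 0, 0, 0, 0, 0, 0, 0, 0, 0, 0, 0]
/-- block permutation of the lift of `(1, 2)` -/
def pi1 : Fin 21 → Fin 21 := ![1, 0, 2, 3, 4, 5, 6, 11, 12, 13, 14, 7, 8, 9, 10, 15, 16, 17, 18, 19, 20]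
/-- translation part of the lift of `(1, 2)` -/
def dd1 : Fin 21 → ZMod 3 := ![0, 0, 0, 0, 1, 2, 0, 0, 0, 1, 2, 0, 0, 1, 2, 0, 1, 2, 2, 1, 0]
/-- block permutation of the lift of `(2, 3)` -/
def pi2 : Fin 21 → Fin 21 := ![0, 2, 1, 3, 4, 5, 7, 6, 8, 9, 10, 11, 15, 16, 17, 12, 13, 14, 18, 19, 20]
/-- translation part of the lift of `(2, 3)` -/
def dd2 : Fin 21 → ZMod 3 := ![0, 0, 0, 0, 0, 0, 0, 0, 0, 0, 0, 0, 0, 0, 0, 0, 0, 0, 0, 0, 0]
/-- block permutation of the lift of `(3, 4)` -/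
def pi3 : Fin 21 → Fin 21 := ![0, 1, 3, 2, 4, 5, 6, 8, 7, 9, 10, 12, 11, 13, 14, 15, 18, 19, 16, 17, 20]
/-- translation part of the lift of `(3, 4)` -/
def dd3 : Fin 21 → ZMod 3 := ![0, 0, 0, 0, 1, 2, 0, 0, 0, 2, 1, 0, 0, 0, 0, 0, 0, 0, 0, 0, 0]
/-- block permutation of the lift of `(4, 5)` -/
def pi4 : Fin 21 → Fin 21 := ![0, 1, 2, 4, 3, 5, 6, 7, 9, 8, 10, 11, 13, 12, 14, 16, 15, 17, 18, 20, 19]
/-- translation part of the lift of `(4, 5)` -/
def dd4 : Fin 21 → ZMod 3 := ![0, 2, 1, 0, 0, 0, 1, 2, 0, 0, 0, 0, 0, 0, 0, 0, 0, 0, 0, 0, 0]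
/-- block permutation of the lift of `(5, 6)` -/
def pi5 : Fin 21 → Fin 21 := ![0, 1, 2, 3, 5, 4, 6, 7, 8, 10, 9, 11, 12, 14, 13, 15, 17, 16, 19, 18, 20]
/-- translation part of the lift of `(5, 6)` -/
def dd5 : Fin 21 → ZMod 3 := ![0, 0, 0, 0, 0, 0, 0, 0, 0, 0, 0, 0, 0, 0, 0, 0, 0, 0, 0, 0, 0]

/-- the block permutations -/
def piK : Fin 6 → Fin 21 → Fin 21 := ![pi0, pi1, pi2, pi3, pi4, pi5]
/-- the translation parts -/
def dK : Fin 6 → Fin 21 → ZMod 3 := ![dd0, dd1, dd2, dd3, dd4, dd5]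

/-- the lift of the adjacent transposition `(k, k+1)` as a map -/
def wfun (k : Fin 6) (x : Fin 21 × ZMod 3) : Fin 21 × ZMod 3 := (piK k x.1, dK k x.1 - x.2)

theorem wfun_invol : ∀ (k : Fin 6) (x : Fin 21 × ZMod 3), wfun k (wfun k x) = x := by decide +kernel

/-- the lift of the adjacent transposition `(k, k+1)` -/
def w (k : Fin 6) : Equiv.Perm (Fin 21 × ZMod 3) :=
  ⟨wfun k, wfun k, wfun_invol k, wfun_invol k⟩

/-- the central element of order `3` of `3.A₇` -/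
def z : Equiv.Perm (Fin 21 × ZMod 3) :=
  ⟨fun x => (x.1, x.2 + 1), fun x => (x.1, x.2 - 1), fun x => by simp, fun x => by simp⟩

theorem z_pow_three : z ^ 3 = 1 := by decide +kernel

theorem z_ne_one : z ≠ 1 := by decide +kernel

theorem orderOf_z : orderOf z = 3 := by
  have : Fact (Nat.Prime 3) := ⟨Nat.prime_three⟩
  exact orderOf_eq_prime z_pow_three z_ne_one

theorem w_conj_z : ∀ k : Fin 6, w k * z * (w k)⁻¹ = z⁻¹ := by decide +kernel

theorem cox6 : ∀ i j : Fin 6, (w i * w j) ^ (CoxeterMatrix.A 6 i j) = 1 ∨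
    (w i * w j) ^ (CoxeterMatrix.A 6 i j) = z ∨ (w i * w j) ^ (CoxeterMatrix.A 6 i j) = z⁻¹ := by
  decide +kernel

theorem comm6 : ⁅(([0, 1] : List (Fin 6)).map w).prod, (([3, 4] : List (Fin 6)).map w).prod⁆ = z := by
  decide +kernel

theorem comm5 : ⁅(([0, 1] : List (Fin 5)).map fun i => w i.castSucc).prod,
    (([3, 4] : List (Fin 5)).map fun i => w i.castSucc).prod⁆ = z := by
  decide +kernel

end Cfsg.Agent.Lib.Helper35.Alt3
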