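import Mathlib
import Cfsg.Agent.Lib.Helper35.Alt.Cover

set_option autoImplicit false

/-! # A model of `2.S₇` inside `GL₈(𝔽₃)`

Seven pairwise anticommuting matrices `E₀, …, E₆` with square `-1` (a Clifford algebra
representation) give the reflections `R k = E_k - E_{k+1}`, which satisfy the Coxeter relations of
type `A₆` modulo `±1`. -/

namespace Cfsg.Agent.Lib.Helper35.Alt2

open scoped commutatorElement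
open Cfsg.Agent.Lib.Helper35.AltCover

/-- the matrix `E_0 - E_1` -/
def RM0 : Matrix (Fin 8) (Fin 8) (ZMod 3) := !![0, 0, 0, 0, 0, 2, 0, 1; 0, 0, 0, 0, 2, 0, 2, 0; 0, 0, 0, 0, 0, 2, 0, 2; 0, 0, 0, 0, 1, 0, 2, 0; 0, 1, 0, 2, 0, 0, 0, 0; 1, 0, 1, 0, 0, 0, 0, 0; 0, 1, 0, 1, 0, 0, 0, 0; 2, 0, 1, 0, 0, 0, 0, 0]
/-- the matrix `E_1 - E_2` -/
def RM1 : Matrix (Fin 8) (Fin 8) (ZMod 3) := !![0, 0, 0, 0, 2, 1, 0, 0; 0, 0, 0, 0, 1, 1, 0, 0; 0, 0, 0, 0, 0, 0, 2, 1; 0, 0, 0, 0, 0, 0, 1, 1; 1, 2, 0, 0, 0, 0, 0, 0; 2, 2, 0, 0, 0, 0, 0, 0; 0, 0, 1, 2, 0, 0, 0, 0; 0, 0, 2, 2, 0, 0, 0, 0]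
/-- the matrix `E_2 - E_3` -/
def RM2 : Matrix (Fin 8) (Fin 8) (ZMod 3) := !![0, 0, 0, 2, 1, 0, 0, 0; 0, 0, 1, 0, 0, 2, 0, 0; 0, 2, 0, 0, 0, 0, 1, 0; 1, 0, 0, 0, 0, 0, 0, 2; 2, 0, 0, 0, 0, 0, 0, 2; 0, 1, 0, 0, 0, 0, 1, 0; 0, 0, 2, 0, 0, 2, 0, 0; 0, 0, 0, 1, 1, 0, 0, 0]
/-- the matrix `E_3 - E_4` -/
def RM3 : Matrix (Fin 8) (Fin 8) (ZMod 3) := !![0, 2, 0, 1, 0, 0, 0, 0; 1, 0, 2, 0, 0, 0, 0, 0; 0, 1, 0, 1, 0, 0, 0, 0; 2, 0, 2, 0, 0, 0, 0, 0; 0, 0, 0, 0, 0, 2, 0, 1; 0, 0, 0, 0, 1, 0, 2, 0; 0, 0, 0, 0, 0, 1, 0, 1; 0, 0, 0, 0, 2, 0, 2, 0]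
/-- the matrix `E_4 - E_5` -/
def RM4 : Matrix (Fin 8) (Fin 8) (ZMod 3) := !![0, 1, 0, 0, 0, 0, 2, 0; 2, 0, 0, 0, 0, 0, 0, 2; 0, 0, 0, 2, 1, 0, 0, 0; 0, 0, 1, 0, 0, 1, 0, 0; 0, 0, 2, 0, 0, 1, 0, 0; 0, 0, 0, 2, 2, 0, 0, 0; 1, 0, 0, 0, 0, 0, 0, 2; 0, 1, 0, 0, 0, 0, 1, 0]
/-- the matrix `E_5 - E_6` -/
def RM5 : Matrix (Fin 8) (Fin 8) (ZMod 3) := !![0, 0, 2, 0, 0, 0, 1, 0; 0, 0, 0, 2, 0, 0, 0, 1; 1, 0, 0, 0, 2, 0, 0, 0; 0, 1, 0, 0, 0, 2, 0, 0; 0, 0, 1, 0, 0, 0, 1, 0; 0, 0, 0, 1, 0, 0, 0, 1; 2, 0, 0, 0, 2, 0, 0, 0; 0, 2, 0, 0, 0, 2, 0, 0]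

/-- the reflection matrices -/
def RM : Fin 6 → Matrix (Fin 8) (Fin 8) (ZMod 3) := ![RM0, RM1, RM2, RM3, RM4, RM5]

theorem RM_sq : ∀ k : Fin 6, RM k * RM k = 1 := by decide +kernel

/-- the reflections as units -/
def R (k : Fin 6) : (Matrix (Fin 8) (Fin 8) (ZMod 3))ˣ := ⟨RM k, RM k, RM_sq k, RM_sq k⟩

theorem neg_one_ne_one : (-1 : (Matrix (Fin 8) (Fin 8) (ZMod 3))ˣ) ≠ 1 := by decide +kernel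

theorem orderOf_neg_one' : orderOf (-1 : (Matrix (Fin 8) (Fin 8) (ZMod 3))ˣ) = 2 := by
  have : Fact (Nat.Prime 2) := ⟨Nat.prime_two⟩
  exact orderOf_eq_prime (by simp) neg_one_ne_one

theorem R_conj : ∀ k : Fin 6, R k * (-1) * (R k)⁻¹ = -1 := by
  intro k; simp

theorem cox6 : ∀ i j : Fin 6, (R i * R j) ^ (CoxeterMatrix.A 6 i j) = 1 ∨
    (R i * R j) ^ (CoxeterMatrix.A 6 i j) = -1 := by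
  decide +kernel

theorem comm6 : ⁅(([0, 2] : List (Fin 6)).map R).prod,
    (([1, 0, 1, 2, 1, 2] : List (Fin 6)).map R).prod⁆ = -1 := by
  decide +kernel

theorem comm5 : ⁅(([0, 2] : List (Fin 5)).map fun i => R i.castSucc).prod,
    (([1, 0, 1, 2, 1, 2] : List (Fin 5)).map fun i => R i.castSucc).prod⁆ = -1 := by
  decide +kernel

end Cfsg.Agent.Lib.Helper35.Alt2
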