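import Mathlib
import Cfsg.Agent.Lib.Helper35.Alt.Cover
import Cfsg.Agent.Lib.Helper35.Alt.Two
import Cfsg.Agent.Lib.Helper35.Alt.Three

set_option autoImplicit false

/-! # Central extensions of `A₆` and `A₇` with elements of order `2` and `3` in the kernel -/

namespace Cfsg.Agent.Lib.Helper35.AltLower

open scoped commutatorElement
open Cfsg.Agent.Lib.Helper35.AltCover

theorem coxA_castSucc : ∀ i j : Fin 5,
    CoxeterMatrix.A 5 i j = CoxeterMatrix.A 6 i.castSucc j.castSucc := by
  intro i j
  fin_cases i <;> fin_cases j <;> rfl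

theorem perm_two_six : (([0, 2] : List (Fin 5)).map (sw 5)).prod *
    (([1, 0, 1, 2, 1, 2] : List (Fin 5)).map (sw 5)).prod =
    (([1, 0, 1, 2, 1, 2] : List (Fin 5)).map (sw 5)).prod *
      (([0, 2] : List (Fin 5)).map (sw 5)).prod := by decide +kernel

theorem perm_two_seven : (([0, 2] : List (Fin 6)).map (sw 6)).prod *
    (([1, 0, 1, 2, 1, 2] : List (Fin 6)).map (sw 6)).prod =
    (([1, 0, 1, 2, 1, 2] : List (Fin 6)).map (sw 6)).prod *
      (([0, 2] : List (Fin 6)).map (sw 6)).prod := by decide +kernel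

theorem perm_three_six : (([0, 1] : List (Fin 5)).map (sw 5)).prod *
    (([3, 4] : List (Fin 5)).map (sw 5)).prod =
    (([3, 4] : List (Fin 5)).map (sw 5)).prod * (([0, 1] : List (Fin 5)).map (sw 5)).prod := by
  decide +kernel

theorem perm_three_seven : (([0, 1] : List (Fin 6)).map (sw 6)).prod *
    (([3, 4] : List (Fin 6)).map (sw 6)).prod =
    (([3, 4] : List (Fin 6)).map (sw 6)).prod * (([0, 1] : List (Fin 6)).map (sw 6)).prod := by
  decide +kernel

/-- a central extension of `A₇` with an element of order `2` in the kernel and in the commutator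
subgroup -/
theorem two_seven : ∃ (X : Type) (_ : Group X) (ξ : X →* alternatingGroup (Fin (6 + 1))),
    Function.Surjective ξ ∧ ξ.ker ≤ Subgroup.center X ∧
      ∃ x : X, x ∈ ξ.ker ⊓ commutator X ∧ orderOf x = 2 := by
  have h := cox_cover (-1 : (Matrix (Fin 8) (Fin 8) (ZMod 3))ˣ) Alt2.R (Or.inl Alt2.R_conj)
    (by
      intro i j
      rcases Alt2.cox6 i j with h | h
      · rw [h]; exact one_mem _
      · rw [h]; exact Subgroup.mem_zpowers _)
    [0, 2] [1, 0, 1, 2, 1, 2] (by decide) (by decide) perm_two_seven Alt2.comm6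
  rw [Alt2.orderOf_neg_one'] at h
  exact h

/-- a central extension of `A₆` with an element of order `2` in the kernel and in the commutator
subgroup -/
theorem two_six : ∃ (X : Type) (_ : Group X) (ξ : X →* alternatingGroup (Fin (5 + 1))),
    Function.Surjective ξ ∧ ξ.ker ≤ Subgroup.center X ∧
      ∃ x : X, x ∈ ξ.ker ⊓ commutator X ∧ orderOf x = 2 := by
  have h := cox_cover (-1 : (Matrix (Fin 8) (Fin 8) (ZMod 3))ˣ) (fun i : Fin 5 => Alt2.R i.castSucc)
    (Or.inl fun i => Alt2.R_conj i.castSucc)
    (by
      intro i j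
      rw [coxA_castSucc]
      rcases Alt2.cox6 i.castSucc j.castSucc with h | h
      · rw [h]; exact one_mem _
      · rw [h]; exact Subgroup.mem_zpowers _)
    [0, 2] [1, 0, 1, 2, 1, 2] (by decide) (by decide) perm_two_six Alt2.comm5
  rw [Alt2.orderOf_neg_one'] at h
  exact h

/-- a central extension of `A₇` with an element of order `3` in the kernel and in the commutator
subgroup -/
theorem three_seven : ∃ (X : Type) (_ : Group X) (ξ : X →* alternatingGroup (Fin (6 + 1))),
    Function.Surjective ξ ∧ ξ.ker ≤ Subgroup.center X ∧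
      ∃ x : X, x ∈ ξ.ker ⊓ commutator X ∧ orderOf x = 3 := by
  have h := cox_cover Alt3.z Alt3.w (Or.inr Alt3.w_conj_z)
    (by
      intro i j
      rcases Alt3.cox6 i j with h | h | h
      · rw [h]; exact one_mem _
      · rw [h]; exact Subgroup.mem_zpowers _
      · rw [h]; exact Subgroup.inv_mem _ (Subgroup.mem_zpowers _))
    [0, 1] [3, 4] (by decide) (by decide) perm_three_seven Alt3.comm6
  rw [Alt3.orderOf_z] at h
  exact h

/-- a central extension of `A₆` with an element of order `3` in the kernel and in the commutator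
subgroup -/
theorem three_six : ∃ (X : Type) (_ : Group X) (ξ : X →* alternatingGroup (Fin (5 + 1))),
    Function.Surjective ξ ∧ ξ.ker ≤ Subgroup.center X ∧
      ∃ x : X, x ∈ ξ.ker ⊓ commutator X ∧ orderOf x = 3 := by
  have h := cox_cover Alt3.z (fun i : Fin 5 => Alt3.w i.castSucc)
    (Or.inr fun i => Alt3.w_conj_z i.castSucc)
    (by
      intro i j
      rw [coxA_castSucc]
      rcases Alt3.cox6 i.castSucc j.castSucc with h | h | h
      · rw [h]; exact one_mem _
      · rw [h]; exact Subgroup.mem_zpowers _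
      · rw [h]; exact Subgroup.inv_mem _ (Subgroup.mem_zpowers _))
    [0, 1] [3, 4] (by decide) (by decide) perm_three_six Alt3.comm5
  rw [Alt3.orderOf_z] at h
  exact h

end Cfsg.Agent.Lib.Helper35.AltLower
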